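import Mathlib

/-!
# Pointwise descent of finite type along a field extension: the conductor argument
-/

set_option autoImplicit false
universe u

open TensorProduct

namespace Groth.Agent.Lib.Helper24.LftPt

section conductor

variable {k K B₀ B : Type*} [Field k] [Field K] [Algebra k K] [CommRing B₀] [CommRing B]
  [Algebra k B₀] [Algebra k B] (j : B₀ →ₐ[k] B)

/-- the base change of `j` -/
noncomputable abbrev bc (K : Type*) [Field K] [Algebra k K] : K ⊗[k] B₀ →ₐ[K] K ⊗[k] B :=
  Algebra.TensorProduct.map (AlgHom.id K K) j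

/-- the conductor of `b` into the image of `j` -/
def cond (b : B) : Ideal B₀ where
  carrier := {s | j s * b ∈ j.range}
  add_mem' := by
    intro s t hs ht
    simp only [Set.mem_setOf_eq, map_add, add_mul] at *
    exact Subalgebra.add_mem _ hs ht
  zero_mem' := by
    simp only [Set.mem_setOf_eq, map_zero, zero_mul]
    exact Subalgebra.zero_mem _
  smul_mem' := by
    intro c s hs
    simp only [Set.mem_setOf_eq, smul_eq_mul, map_mul, mul_assoc] at *
    exact Subalgebra.mul_mem _ ⟨c, rfl⟩ hs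

theorem mem_cond {b : B} {s : B₀} : s ∈ cond j b ↔ j s * b ∈ j.range := Iff.rfl

theorem mem_map_cond (b : B) (r₀ : K ⊗[k] B₀)
    (h : bc j K r₀ * (1 ⊗ₜ b) ∈ (bc j K).range) :
    r₀ ∈ Ideal.map (Algebra.TensorProduct.includeRight : B₀ →ₐ[k] K ⊗[k] B₀) (cond j b) := by
  obtain ⟨r₁, hr₁⟩ := h
  let N₀ : Submodule k B := LinearMap.range j.toLinearMap
  let μ : B₀ →ₗ[k] B ⧸ N₀ := N₀.mkQ ∘ₗ (LinearMap.mulRight k b) ∘ₗ j.toLinearMap
  have hker : ∀ s, μ s = 0 → s ∈ cond j b := by
    intro s hs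
    have : j s * b ∈ N₀ := (Submodule.Quotient.mk_eq_zero N₀).1 hs
    obtain ⟨t, ht⟩ := this
    exact ⟨t, ht⟩
  have e0 : ∀ r : K ⊗[k] B₀, LinearMap.lTensor K N₀.mkQ (bc j K r) = 0 := by
    intro r
    induction r with
    | zero => simp
    | tmul c s =>
      simp only [bc, Algebra.TensorProduct.map_tmul, AlgHom.coe_id, id_eq, LinearMap.lTensor_tmul]
      have : N₀.mkQ (j s) = 0 := (Submodule.Quotient.mk_eq_zero N₀).2 ⟨s, rfl⟩
      rw [this, tmul_zero]
    | add x y hx hy => rw [map_add, map_add, hx, hy, add_zero]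
  have e1 : ∀ r : K ⊗[k] B₀, LinearMap.lTensor K μ r =
      LinearMap.lTensor K N₀.mkQ (bc j K r * (1 ⊗ₜ b)) := by
    intro r
    induction r with
    | zero => simp
    | tmul c s =>
      simp only [bc, Algebra.TensorProduct.map_tmul, AlgHom.coe_id, id_eq, LinearMap.lTensor_tmul,
        Algebra.TensorProduct.tmul_mul_tmul, mul_one]
      rfl
    | add x y hx hy => rw [map_add, map_add, add_mul, map_add, hx, hy]
  have h1 : LinearMap.lTensor K μ r₀ = 0 := by
    rw [e1, ← hr₁]
    exact e0 r₁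
  have hex : Function.Exact (LinearMap.lTensor K (LinearMap.ker μ).subtype)
      (LinearMap.lTensor K μ) :=
    Module.Flat.lTensor_exact K (LinearMap.exact_subtype_ker_map μ)
  obtain ⟨z, rfl⟩ := (hex r₀).1 h1
  clear h1 hr₁
  induction z with
  | zero => simp
  | tmul c s =>
    have : LinearMap.lTensor K (LinearMap.ker μ).subtype (c ⊗ₜ s) =
        (c ⊗ₜ[k] (1 : B₀)) * (Algebra.TensorProduct.includeRight : B₀ →ₐ[k] K ⊗[k] B₀) s.1 := by
      simp [Algebra.TensorProduct.tmul_mul_tmul]
    rw [this]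
    exact Ideal.mul_mem_left _ _ (Ideal.mem_map_of_mem _ (hker _ s.2))
  | add x y hx hy => rw [map_add]; exact Ideal.add_mem _ hx hy

end conductor

end Groth.Agent.Lib.Helper24.LftPt
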