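import Mathlib
import Groth.Agent.Lib.Helper24.LftPt.Cond

/-!
# Pointwise descent of finite type along a field extension: finite generation steps
-/

set_option autoImplicit false
universe u

open TensorProduct

namespace Groth.Agent.Lib.Helper24.LftPt

section approx

variable {k K B : Type*} [Field k] [Field K] [Algebra k K] [CommRing B] [Algebra k B]

theorem mem_range_bc_mono {C C' : Subalgebra k B} (h : C ≤ C') {x : K ⊗[k] B}
    (hx : x ∈ (bc C.val K).range) : x ∈ (bc C'.val K).range := by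
  obtain ⟨y, rfl⟩ := hx
  refine ⟨bc (Subalgebra.inclusion h) K y, ?_⟩
  induction y with
  | zero => simp
  | tmul c s => simp [bc]
  | add x y hx hy => simp only [map_add, hx, hy]

theorem exists_fg_baseChange (t : Finset (K ⊗[k] B)) :
    ∃ C : Subalgebra k B, C.FG ∧ ∀ x ∈ t, x ∈ (bc C.val K).range := by
  classical
  induction t using Finset.induction_on with
  | empty => exact ⟨⊥, Subalgebra.fg_bot, by simp⟩
  | insert a t _ ih =>
    obtain ⟨C, hC, hCt⟩ := ih
    obtain ⟨D, hD, haD⟩ := exists_fg_and_mem_baseChange (A := K) a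
    refine ⟨C ⊔ D, hC.sup hD, ?_⟩
    intro x hx
    rcases Finset.mem_insert.1 hx with rfl | hx
    · exact mem_range_bc_mono le_sup_right haD
    · exact mem_range_bc_mono le_sup_left (hCt x hx)

theorem exists_fg_approx (f : K ⊗[k] B) [Algebra.FiniteType K (Localization.Away f)] :
    ∃ C : Subalgebra k B, C.FG ∧ ∃ f₀ : K ⊗[k] C, bc C.val K f₀ = f ∧
      ∀ r : K ⊗[k] B, ∃ (n : ℕ) (r₁ : K ⊗[k] C), f ^ n * r = bc C.val K r₁ := by
  classical
  obtain ⟨s, hs⟩ := (Algebra.FiniteType.out : (⊤ : Subalgebra K (Localization.Away f)).FG)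
  have hsurj : ∀ z : Localization.Away f, ∃ (n : ℕ) (a : K ⊗[k] B),
      z * algebraMap _ (Localization.Away f) f ^ n = algebraMap _ _ a :=
    fun z => IsLocalization.Away.surj f z
  choose M Y hMY using hsurj
  obtain ⟨C, hC, hCt⟩ := exists_fg_baseChange (insert f (s.image Y))
  obtain ⟨f₀, hf₀⟩ := hCt f (Finset.mem_insert_self _ _)
  replace hf₀ : bc C.val K f₀ = f := hf₀
  refine ⟨C, hC, f₀, hf₀, ?_⟩
  have hP : ∀ z ∈ Algebra.adjoin K (s : Set (Localization.Away f)),
      ∃ (m : ℕ) (r₁ : K ⊗[k] C), z * algebraMap _ (Localization.Away f) f ^ m =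
        algebraMap _ _ (bc C.val K r₁) := by
    intro z hz
    induction hz using Algebra.adjoin_induction with
    | mem z hz =>
      obtain ⟨r₁, hr₁⟩ := hCt (Y z)
        (Finset.mem_insert_of_mem (Finset.mem_image_of_mem _ (Finset.mem_coe.1 hz)))
      replace hr₁ : bc C.val K r₁ = Y z := hr₁
      exact ⟨M z, r₁, by rw [hMY z, hr₁]⟩
    | algebraMap c =>
      refine ⟨0, algebraMap K _ c, ?_⟩
      rw [pow_zero, mul_one, AlgHom.commutes, ← IsScalarTower.algebraMap_apply]
    | add x y _ _ hx hy =>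
      obtain ⟨m, r, hr⟩ := hx
      obtain ⟨m', r', hr'⟩ := hy
      refine ⟨m + m', r * f₀ ^ m' + r' * f₀ ^ m, ?_⟩
      rw [map_add, map_mul, map_mul, map_pow, map_pow, hf₀, map_add, map_mul, map_mul, ← hr, ← hr',
        map_pow, map_pow]
      ring
    | mul x y _ _ hx hy =>
      obtain ⟨m, r, hr⟩ := hx
      obtain ⟨m', r', hr'⟩ := hy
      refine ⟨m + m', r * r', ?_⟩
      rw [map_mul, map_mul, ← hr, ← hr']
      ring
  intro r
  obtain ⟨m, r₁, h1⟩ := hP (algebraMap _ _ r) (by rw [hs]; trivial)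
  rw [← map_pow, ← map_mul] at h1
  obtain ⟨⟨_, n, rfl⟩, hc⟩ := (IsLocalization.eq_iff_exists (Submonoid.powers f) _).1 h1
  refine ⟨n + m, f₀ ^ n * r₁, ?_⟩
  rw [map_mul, map_pow, hf₀, ← hc]
  ring

end approx

section away

variable {k B : Type*} [CommRing k] [CommRing B] [Algebra k B]

theorem finiteType_away_of_pow_mem (C : Subalgebra k B) (hC : C.FG) (g : C)
    (h : ∀ b : B, ∃ n : ℕ, (g : B) ^ n * b ∈ C) :
    Algebra.FiniteType k (Localization.Away (g : B)) := by
  haveI : Algebra.FiniteType k C := (Subalgebra.fg_iff_finiteType C).1 hC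
  haveI : Algebra.FinitePresentation C (Localization.Away g) :=
    IsLocalization.Away.finitePresentation g
  haveI : Algebra.FiniteType k (Localization.Away g) :=
    Algebra.FiniteType.trans (S := C) inferInstance inferInstance
  let φ : Localization.Away g →ₐ[k] Localization.Away (C.val g) := Localization.awayMapₐ C.val g
  refine Algebra.FiniteType.of_surjective φ ?_
  intro z
  obtain ⟨m, b, hz⟩ := IsLocalization.Away.surj (g : B) z
  obtain ⟨n, hn⟩ := h b
  have hu : IsUnit (algebraMap B (Localization.Away (g : B)) (g : B)) :=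
    IsLocalization.Away.algebraMap_isUnit (g : B)
  have hu₀ : IsUnit (algebraMap C (Localization.Away g) g) :=
    IsLocalization.Away.algebraMap_isUnit g
  obtain ⟨w, hw⟩ : ∃ w : Localization.Away g,
      w * algebraMap C _ g ^ (n + m) = algebraMap C _ ⟨_, hn⟩ := by
    obtain ⟨v, hv⟩ := (hu₀.pow (n + m)).exists_left_inv
    exact ⟨algebraMap C _ ⟨_, hn⟩ * v, by rw [mul_assoc, hv, mul_one]⟩
  refine ⟨w, ?_⟩
  have hφ : ∀ c : C, φ (algebraMap C _ c) = algebraMap B _ (c : B) := by
    intro c
    simp only [φ, Localization.awayMapₐ, IsLocalization.Away.mapₐ_apply, IsLocalization.Away.map,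
      IsLocalization.map_eq]
    rfl
  have h1 : φ w * algebraMap B _ (g : B) ^ (n + m) = algebraMap B _ ((g : B) ^ n * b) := by
    rw [← hφ g, ← map_pow, ← map_mul, hw, hφ]
  have h2 : z * algebraMap B _ (g : B) ^ (n + m) = algebraMap B _ ((g : B) ^ n * b) := by
    rw [map_mul, ← hz, map_pow, pow_add]
    ring
  exact (hu.pow (n + m)).mul_left_injective (h1.trans h2.symm)

end away

end Groth.Agent.Lib.Helper24.LftPt
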