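import Mathlib
import Groth.Agent.Lib.Helper24.LftPt.Approx

/-!
# Pointwise descent of finite type along a field extension
-/

set_option autoImplicit false
universe u

open TensorProduct

namespace Groth.Agent.Lib.Helper24.LftPt

section field

variable {k K B : Type*} [Field k] [Field K] [Algebra k K] [CommRing B] [Algebra k B]

theorem isOpenMap_comap_includeRight (C : Type*) [CommRing C] [Algebra k C] :
    IsOpenMap (PrimeSpectrum.comap
      (Algebra.TensorProduct.includeRight : C →ₐ[k] K ⊗[k] C).toRingHom) := by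
  have e : (Algebra.TensorProduct.includeRight : C →ₐ[k] K ⊗[k] C).toRingHom =
      ((Algebra.TensorProduct.comm k C K).toAlgHom.toRingHom).comp (algebraMap C (C ⊗[k] K)) := by
    ext c
    simp [Algebra.TensorProduct.algebraMap_apply]
  rw [e, PrimeSpectrum.comap_comp]
  refine IsOpenMap.comp PrimeSpectrum.isOpenMap_comap_algebraMap_tensorProduct_of_field ?_
  exact (PrimeSpectrum.isHomeomorph_comap_of_bijective
    (Algebra.TensorProduct.comm k C K).bijective).isOpenMap

/-- **Pointwise descent of finite type along a field extension.** -/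
theorem exists_away_finiteType_of_field (f : K ⊗[k] B) [Algebra.FiniteType K (Localization.Away f)]
    (q : PrimeSpectrum (K ⊗[k] B)) (hq : f ∉ q.asIdeal) :
    ∃ g : B, (1 : K) ⊗ₜ[k] g ∉ q.asIdeal ∧ Algebra.FiniteType k (Localization.Away g) := by
  obtain ⟨C, hC, f₀, hf₀, happ⟩ := exists_fg_approx f
  let ι : K ⊗[k] C →ₐ[K] K ⊗[k] B := bc C.val K
  let inc : C →ₐ[k] K ⊗[k] C := Algebra.TensorProduct.includeRight
  let q₀ : PrimeSpectrum (K ⊗[k] C) := PrimeSpectrum.comap ι.toRingHom q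
  have hq₀ : f₀ ∉ q₀.asIdeal := by
    intro h
    apply hq
    have : ι f₀ ∈ q.asIdeal := h
    rwa [hf₀] at this
  let p₀ : PrimeSpectrum C := PrimeSpectrum.comap inc.toRingHom q₀
  let U₀ : Set (PrimeSpectrum C) :=
    PrimeSpectrum.comap inc.toRingHom '' (PrimeSpectrum.basicOpen f₀ : Set _)
  have hU₀ : IsOpen U₀ := isOpenMap_comap_includeRight C _ (PrimeSpectrum.basicOpen f₀).isOpen
  have hp₀ : p₀ ∈ U₀ := ⟨q₀, hq₀, rfl⟩
  obtain ⟨_, ⟨g, rfl⟩, hpg, hsub⟩ :=
    PrimeSpectrum.isTopologicalBasis_basic_opens.exists_subset_of_mem_open hp₀ hU₀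
  have hpow : ∀ b : B, ∃ N : ℕ, (g : B) ^ N * b ∈ C := by
    intro b
    obtain ⟨n, r₁, hn⟩ := happ (1 ⊗ₜ b)
    have h1 : bc C.val K (f₀ ^ n) * (1 ⊗ₜ b) ∈ (bc C.val K).range :=
      ⟨r₁, by rw [map_pow, hf₀, hn]; rfl⟩
    have hmem := mem_map_cond C.val b (f₀ ^ n) h1
    have hrad : g ∈ (cond C.val b).radical := by
      rw [Ideal.radical_eq_sInf, Submodule.mem_sInf]
      rintro P ⟨hIP, hPprime⟩
      by_contra hgP
      have hP' : (⟨P, hPprime⟩ : PrimeSpectrum C) ∈ U₀ := hsub hgP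
      obtain ⟨Q, hQ, hQP⟩ := hP'
      have hle : Ideal.map inc (cond C.val b) ≤ Q.asIdeal := by
        rw [Ideal.map_le_iff_le_comap]
        have : Ideal.comap inc Q.asIdeal = P := congrArg PrimeSpectrum.asIdeal hQP
        rw [this]
        exact hIP
      exact hQ (Q.2.mem_of_pow_mem n (hle hmem))
    obtain ⟨N, hN⟩ := hrad
    obtain ⟨c, hc⟩ := (mem_cond C.val).1 hN
    refine ⟨N, ?_⟩
    have : (g : B) ^ N * b = (c : B) := by
      have hc' : (c : B) = C.val (g ^ N) * b := hc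
      rw [hc']
      simp
    rw [this]
    exact c.2
  refine ⟨(g : B), ?_, finiteType_away_of_pow_mem C hC g hpow⟩
  intro h
  apply hpg
  show inc g ∈ q₀.asIdeal
  show ι (inc g) ∈ q.asIdeal
  have : ι (inc g) = (1 : K) ⊗ₜ[k] (g : B) := by
    simp [ι, inc, bc]
  rw [this]
  exact h

end field

end Groth.Agent.Lib.Helper24.LftPt
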