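import Mathlib
import Groth.Agent.S5338
import Groth.Agent.Lib.Helper24.LftPt.Field

/-!
# Pointwise descent of finite type: base with a nilpotent maximal ideal
-/

set_option autoImplicit false
universe u

open TensorProduct

namespace Groth.Agent.Lib.Helper24.LftPt

theorem finiteType_away_of_surjective {K R S : Type*} [CommRing K] [CommRing R] [CommRing S]
    [Algebra K R] [Algebra K S]
    (φ : R →ₐ[K] S) (hφ : Function.Surjective φ) (f : R) [Algebra.FiniteType K (Localization.Away f)] :
    Algebra.FiniteType K (Localization.Away (φ f)) :=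
  Algebra.FiniteType.of_surjective (Localization.awayMapₐ φ f)
      (IsLocalization.Away.mapₐ_surjective_of_surjective f hφ)

section nilp

variable {A k K B : Type u} [CommRing A] [Field k] [Field K] [Algebra A k] [Algebra A K]
  [Algebra k K] [IsScalarTower A k K] [CommRing B] [Algebra A B]

/-- finite type modulo a nilpotent ideal, for a localization away from an element -/
theorem finiteType_away_of_residue (hk : Function.Surjective (algebraMap A k))
    (hJ : IsNilpotent (RingHom.ker (algebraMap A k))) (g : B)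
    (h : Algebra.FiniteType k (Localization.Away ((1 : k) ⊗ₜ[A] g))) :
    Algebra.FiniteType A (Localization.Away g) := by
  set J : Ideal A := RingHom.ker (algebraMap A k) with hJdef
  refine Groth.Agent.S5338.finiteType_of_quotient J hJ ?_
  let Q := Localization.Away g ⧸ J.map (algebraMap A (Localization.Away g))
  haveI : Algebra.FiniteType A k := Algebra.FiniteType.of_surjective (Algebra.ofId A k) hk
  haveI : Algebra.FiniteType A (Localization.Away ((1 : k) ⊗ₜ[A] g)) :=
    Algebra.FiniteType.trans (S := k) inferInstance h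
  have hkill : ∀ a ∈ RingHom.ker (Algebra.ofId A k), Algebra.ofId A Q a = 0 := by
    intro a ha
    have ha' : a ∈ J := ha
    show algebraMap A Q a = 0
    rw [IsScalarTower.algebraMap_apply A (Localization.Away g) Q]
    exact Ideal.Quotient.eq_zero_iff_mem.2 (Ideal.mem_map_of_mem _ ha')
  let κ : k →ₐ[A] Q := (Ideal.Quotient.liftₐ _ (Algebra.ofId A Q) hkill).comp
    (Ideal.quotientKerAlgEquivOfSurjective (f := Algebra.ofId A k) hk).symm.toAlgHom
  let θ₀ : k ⊗[A] B →ₐ[A] Q :=
    Algebra.TensorProduct.lift κ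
      ((Ideal.Quotient.mkₐ A _).comp (IsScalarTower.toAlgHom A B (Localization.Away g)))
      (fun _ _ => Commute.all _ _)
  have hθ₀ : ∀ b : B, θ₀ (1 ⊗ₜ b) = Ideal.Quotient.mk _ (algebraMap B (Localization.Away g) b) := by
    intro b
    simp [θ₀]
  have hu : IsUnit (Ideal.Quotient.mk (J.map (algebraMap A (Localization.Away g)))
      (algebraMap B (Localization.Away g) g)) :=
    (IsLocalization.Away.algebraMap_isUnit g).map _
  let θ : Localization.Away ((1 : k) ⊗ₜ[A] g) →ₐ[A] Q :=
    IsLocalization.liftAlgHom (M := Submonoid.powers ((1 : k) ⊗ₜ[A] g)) (f := θ₀) (by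
      rintro ⟨_, n, rfl⟩
      rw [map_pow, hθ₀]
      exact hu.pow n)
  have hθ : ∀ x, θ (algebraMap _ _ x) = θ₀ x := fun x => IsLocalization.lift_eq _ x
  have hθsurj : Function.Surjective θ := by
    intro z
    obtain ⟨z, rfl⟩ := Ideal.Quotient.mk_surjective z
    obtain ⟨n, b, hz⟩ := IsLocalization.Away.surj g z
    have hu' : IsUnit (algebraMap (k ⊗[A] B) (Localization.Away ((1 : k) ⊗ₜ[A] g))
        ((1 : k) ⊗ₜ[A] g)) := IsLocalization.Away.algebraMap_isUnit _
    obtain ⟨v, hv⟩ := (hu'.pow n).exists_left_inv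
    refine ⟨algebraMap _ _ ((1 : k) ⊗ₜ[A] b) * v, ?_⟩
    apply (hu.pow n).mul_left_injective
    have e1 : θ (algebraMap _ _ ((1 : k) ⊗ₜ[A] g)) =
        Ideal.Quotient.mk _ (algebraMap B (Localization.Away g) g) := by rw [hθ, hθ₀]
    have e2 : θ (algebraMap _ _ ((1 : k) ⊗ₜ[A] b)) =
        Ideal.Quotient.mk _ (algebraMap B (Localization.Away g) b) := by rw [hθ, hθ₀]
    calc θ (algebraMap _ _ ((1 : k) ⊗ₜ[A] b) * v) *
          (Ideal.Quotient.mk _ (algebraMap B (Localization.Away g) g)) ^ n
        = θ (algebraMap _ _ ((1 : k) ⊗ₜ[A] b) *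
            (v * algebraMap _ _ ((1 : k) ⊗ₜ[A] g) ^ n)) := by
          rw [← e1, ← map_pow, ← map_mul, mul_assoc]
      _ = Ideal.Quotient.mk _ (algebraMap B (Localization.Away g) b) := by rw [hv, mul_one, e2]
      _ = Ideal.Quotient.mk _ z *
            (Ideal.Quotient.mk _ (algebraMap B (Localization.Away g) g)) ^ n := by
          rw [← hz, map_mul, map_pow]
  haveI : Algebra.FiniteType A Q := Algebra.FiniteType.of_surjective θ hθsurj
  exact Algebra.FiniteType.of_restrictScalars_finiteType A (A ⧸ J) Q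

theorem exists_away_finiteType_aux (hk : Function.Surjective (algebraMap A k))
    (hJ : IsNilpotent (RingHom.ker (algebraMap A k)))
    (f : K ⊗[A] B) [Algebra.FiniteType K (Localization.Away f)]
    (q : PrimeSpectrum (K ⊗[A] B)) (hq : f ∉ q.asIdeal) :
    ∃ g : B, (1 : K) ⊗ₜ[A] g ∉ q.asIdeal ∧ Algebra.FiniteType A (Localization.Away g) := by
  let e : K ⊗[k] (k ⊗[A] B) ≃ₐ[K] K ⊗[A] B :=
    Algebra.TensorProduct.cancelBaseChange A k K K B
  have he : ∀ b : B, e ((1 : K) ⊗ₜ[k] ((1 : k) ⊗ₜ[A] b)) = (1 : K) ⊗ₜ[A] b := by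
    intro b
    rw [Algebra.TensorProduct.cancelBaseChange_tmul, one_smul]
  generalize e = e' at he
  let φ : K ⊗[A] B →ₐ[K] K ⊗[k] (k ⊗[A] B) := e'.symm
  have hφ : Function.Surjective φ := e'.symm.surjective
  haveI : Algebra.FiniteType K (Localization.Away (φ f)) := finiteType_away_of_surjective φ hφ f
  let q' : PrimeSpectrum (K ⊗[k] (k ⊗[A] B)) :=
    PrimeSpectrum.comap e'.toAlgHom.toRingHom q
  have hq' : φ f ∉ q'.asIdeal := by
    intro h
    apply hq
    have : e' (e'.symm f) ∈ q.asIdeal := h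
    rwa [AlgEquiv.apply_symm_apply] at this
  obtain ⟨g', hg'q, hg'⟩ := exists_away_finiteType_of_field (φ f) q' hq'
  obtain ⟨g, rfl⟩ := Algebra.TensorProduct.includeRight_surjective (R := A) (S := k) B hk g'
  refine ⟨g, ?_, finiteType_away_of_residue hk hJ g hg'⟩
  intro h
  apply hg'q
  have h2 : e' ((1 : K) ⊗ₜ[k] ((1 : k) ⊗ₜ[A] g)) ∈ q.asIdeal := by
    rw [he]
    exact h
  exact h2

end nilp

end Groth.Agent.Lib.Helper24.LftPt
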