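import Mathlib
import Groth.Agent.Lib.Helper24.LftPt.Nilp

/-!
# Pointwise descent of finite type over an artinian local ring
-/

set_option autoImplicit false
universe u

open TensorProduct

namespace Groth.Agent.Lib.Helper24.LftPt

section art

variable {A K B : Type u} [CommRing A] [IsLocalRing A] [IsArtinianRing A] [Field K] [Algebra A K]
  [CommRing B] [Algebra A B]

theorem isNilpotent_maximalIdeal : IsNilpotent (IsLocalRing.maximalIdeal A) := by
  rw [← IsLocalRing.jacobson_eq_maximalIdeal (⊥ : Ideal A) bot_ne_top]
  exact IsArtinianRing.isNilpotent_jacobson_bot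

theorem algebraMap_eq_zero_of_mem_maximalIdeal (a : A) (ha : a ∈ IsLocalRing.maximalIdeal A) :
    algebraMap A K a = 0 := by
  obtain ⟨n, hn⟩ := isNilpotent_maximalIdeal (A := A)
  have h1 : a ^ n ∈ IsLocalRing.maximalIdeal A ^ n := Ideal.pow_mem_pow ha n
  rw [hn] at h1
  have h2 : a ^ n = 0 := h1
  have h3 : IsNilpotent (algebraMap A K a) := ⟨n, by rw [← map_pow, h2, map_zero]⟩
  exact h3.eq_zero

/-- **Pointwise descent of finite type** over an artinian local ring: if `K ⊗[A] B` is of finite
type over the field `K` near a prime `q`, then `B` is of finite type over `A` near the image of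
`q`. -/
theorem exists_away_finiteType
    (f : K ⊗[A] B) [Algebra.FiniteType K (Localization.Away f)]
    (q : PrimeSpectrum (K ⊗[A] B)) (hq : f ∉ q.asIdeal) :
    ∃ g : B, (1 : K) ⊗ₜ[A] g ∉ q.asIdeal ∧ Algebra.FiniteType A (Localization.Away g) := by
  letI : Algebra (IsLocalRing.ResidueField A) K :=
    (Ideal.Quotient.lift (IsLocalRing.maximalIdeal A) (algebraMap A K)
      algebraMap_eq_zero_of_mem_maximalIdeal).toAlgebra
  haveI : IsScalarTower A (IsLocalRing.ResidueField A) K :=
    IsScalarTower.of_algebraMap_eq (fun a => rfl)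
  refine exists_away_finiteType_aux (k := IsLocalRing.ResidueField A)
    IsLocalRing.residue_surjective ?_ f q hq
  rw [IsLocalRing.ResidueField.algebraMap_eq, IsLocalRing.ker_residue]
  exact isNilpotent_maximalIdeal

end art

end Groth.Agent.Lib.Helper24.LftPt
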