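import Mathlib
import Groth.Agent.Lib.Helper24.LftPt.Art

/-!
# Pointwise descent of `LocallyOfFiniteType`: affine case
-/

set_option autoImplicit false
universe u

open CategoryTheory Limits AlgebraicGeometry TensorProduct

namespace Groth.Agent.Lib.Helper24.LftPt

/-- the open immersion `Spec B_g ⟶ Spec B` -/
noncomputable abbrev awayι {B : Type u} [CommRing B] (g : B) :
    Spec (.of (Localization.Away g)) ⟶ Spec (.of B) :=
  Spec.map (CommRingCat.ofHom (algebraMap B (Localization.Away g)))

theorem mem_opensRange_awayι {B : Type u} [CommRing B] (g : B) (y : Spec (.of B)) :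
    y ∈ (awayι g).opensRange ↔ g ∉ y.asIdeal := by
  have h := Scheme.Hom.opensRange_localizationAway (R := .of B) g
  have h2 : y ∈ (awayι g).opensRange ↔ y ∈ (PrimeSpectrum.basicOpen g : Set (PrimeSpectrum B)) := by
    have := congrArg (fun U : (Spec (.of B)).Opens => (U : Set (Spec (.of B)))) h
    exact Set.ext_iff.1 this y
  exact h2

theorem lft_Spec_away {A B : Type u} [CommRing A] [CommRing B] [Algebra A B] (g : B)
    [Algebra.FiniteType A (Localization.Away g)] :
    LocallyOfFiniteType ((awayι g).opensRange.ι ≫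
      Spec.map (CommRingCat.ofHom (algebraMap A B))) := by
  have e2 : awayι g ≫ Spec.map (CommRingCat.ofHom (algebraMap A B)) =
      Spec.map (CommRingCat.ofHom (algebraMap A (Localization.Away g))) := by
    rw [← Spec.map_comp, ← CommRingCat.ofHom_comp, ← IsScalarTower.algebraMap_eq]
  haveI : LocallyOfFiniteType (Spec.map (CommRingCat.ofHom (algebraMap A (Localization.Away g)))) := by
    rw [HasRingHomProperty.Spec_iff (P := @LocallyOfFiniteType)]
    exact RingHom.finiteType_algebraMap.2 inferInstance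
  rw [← Scheme.Hom.isoOpensRange_inv_comp, Category.assoc, e2]
  infer_instance

end Groth.Agent.Lib.Helper24.LftPt

namespace Groth.Agent.Lib.Helper24.LftPt

open Algebra.TensorProduct CommRingCat RingHomClass

/-- **Pointwise descent of `LocallyOfFiniteType`, affine case.** -/
theorem exists_opens_lft_of_affine {A K B : Type u} [CommRing A] [IsLocalRing A] [IsArtinianRing A]
    [Field K] [CommRing B]
    (t : Spec (.of K) ⟶ Spec (.of A)) (f : Spec (.of B) ⟶ Spec (.of A))
    {P V' : Scheme.{u}} {p₁ : P ⟶ Spec (.of K)} {p₂ : P ⟶ Spec (.of B)} (sq : IsPullback p₁ p₂ t f)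
    (j : V' ⟶ P) [IsOpenImmersion j] [LocallyOfFiniteType (j ≫ p₁)] (x' : V') :
    ∃ V : (Spec (.of B)).Opens, (j ≫ p₂).base x' ∈ V ∧ LocallyOfFiniteType (V.ι ≫ f) := by
  obtain ⟨ψ, rfl⟩ := Spec.map_surjective t
  obtain ⟨φ, rfl⟩ := Spec.map_surjective f
  algebraize [ψ.hom, φ.hom]
  let e : P ≅ Spec (.of (K ⊗[A] B)) := sq.isoPullback ≪≫ pullbackSpecIso A K B
  have he1 : e.hom ≫ Spec.map (ofHom includeLeftRingHom) = p₁ := by
    simp only [e, Iso.trans_hom, Category.assoc]
    erw [pullbackSpecIso_hom_fst]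
    exact sq.isoPullback_hom_fst
  have he2 : e.hom ≫ Spec.map (ofHom (toRingHom (includeRight : B →ₐ[A] K ⊗[A] B))) = p₂ := by
    simp only [e, Iso.trans_hom, Category.assoc]
    erw [pullbackSpecIso_hom_snd]
    exact sq.isoPullback_hom_snd
  let j' : V' ⟶ Spec (.of (K ⊗[A] B)) := j ≫ e.hom
  let x'' : PrimeSpectrum (K ⊗[A] B) := j'.base x'
  let O : Set (PrimeSpectrum (K ⊗[A] B)) :=
    Set.range (fun v => (j'.base v : PrimeSpectrum (K ⊗[A] B)))
  have hO : IsOpen O := j'.isOpenEmbedding.isOpen_range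
  have hx'' : x'' ∈ O := ⟨x', rfl⟩
  obtain ⟨_, ⟨fe, rfl⟩, hfe, hsub⟩ :=
    PrimeSpectrum.isTopologicalBasis_basic_opens.exists_subset_of_mem_open hx'' hO
  have hrange : Set.range (awayι fe).base ⊆ Set.range j'.base := by
    rintro _ ⟨z, rfl⟩
    have h1 : (awayι fe).base z ∈ (awayι fe).opensRange := ⟨z, rfl⟩
    rw [mem_opensRange_awayι] at h1
    exact hsub h1
  let L := IsOpenImmersion.lift j' (awayι fe) hrange
  have hL : L ≫ j' = awayι fe := IsOpenImmersion.lift_fac _ _ _
  haveI : IsOpenImmersion (L ≫ j') := by rw [hL]; infer_instance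
  haveI : IsOpenImmersion L := IsOpenImmersion.of_comp L j'
  have hcomp : L ≫ j ≫ p₁ = Spec.map (ofHom (algebraMap K (Localization.Away fe))) := by
    rw [← he1, ← Category.assoc j, ← Category.assoc L]
    show (L ≫ j') ≫ _ = _
    rw [hL, ← Spec.map_comp, ← CommRingCat.ofHom_comp]
  haveI : Algebra.FiniteType K (Localization.Away fe) := by
    have h1 : LocallyOfFiniteType (L ≫ j ≫ p₁) := inferInstance
    rw [hcomp, HasRingHomProperty.Spec_iff (P := @LocallyOfFiniteType)] at h1
    exact RingHom.finiteType_algebraMap.1 h1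
  obtain ⟨g, hgq, hg⟩ := exists_away_finiteType fe x'' hfe
  refine ⟨(awayι g).opensRange, ?_, lft_Spec_away g⟩
  rw [mem_opensRange_awayι]
  intro h
  apply hgq
  have h2 : (j ≫ p₂).base x' =
      (Spec.map (ofHom (toRingHom (includeRight : B →ₐ[A] K ⊗[A] B)))).base x'' := by
    rw [← he2, ← Category.assoc]
    rfl
  rw [h2] at h
  exact h

end Groth.Agent.Lib.Helper24.LftPt
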