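import Mathlib
import Groth.Agent.Lib.Helper24.LftPt.Aff

/-!
# Pointwise descent of `LocallyOfFiniteType` over an artinian local base
-/

set_option autoImplicit false
universe u

open CategoryTheory Limits AlgebraicGeometry TensorProduct

namespace Groth.Agent.Lib.Helper24.LftPt

/-- **Pointwise descent of `LocallyOfFiniteType`.** Let `A` be an artinian local ring, `Y` an
`A`-scheme, `K` a field over `A`, and `V'` an open subscheme of `Y ×_A K` locally of finite type over
`K`. Then every point of the image of `V'` in `Y` has an open neighbourhood locally of finite type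
over `A`. -/
theorem exists_opens_lft {A K : Type u} [CommRing A] [IsLocalRing A] [IsArtinianRing A] [Field K]
    {Y : Scheme.{u}} (t : Spec (.of K) ⟶ Spec (.of A)) (f : Y ⟶ Spec (.of A))
    {P V' : Scheme.{u}} {p₁ : P ⟶ Spec (.of K)} {p₂ : P ⟶ Y} (sq : IsPullback p₁ p₂ t f)
    (j : V' ⟶ P) [IsOpenImmersion j] [LocallyOfFiniteType (j ≫ p₁)] (x' : V') :
    ∃ V : Y.Opens, (j ≫ p₂).base x' ∈ V ∧ LocallyOfFiniteType (V.ι ≫ f) := by
  obtain ⟨R, i, hi, y', hy'⟩ := Scheme.exists_Spec_apply_eq ((j ≫ p₂).base x')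
  have sq' : IsPullback (pullback.fst p₂ i ≫ p₁) (pullback.snd p₂ i) t (i ≫ f) :=
    (IsPullback.of_hasPullback p₂ i).paste_horiz sq
  let j'' : pullback (j ≫ p₂) i ⟶ pullback p₂ i :=
    pullback.map (j ≫ p₂) i p₂ i j (𝟙 _) (𝟙 _) (by simp) (by simp)
  have hj'' : j'' ≫ pullback.fst p₂ i ≫ p₁ = pullback.fst (j ≫ p₂) i ≫ j ≫ p₁ := by
    rw [← Category.assoc, pullback.lift_fst, Category.assoc]
  haveI : LocallyOfFiniteType (j'' ≫ pullback.fst p₂ i ≫ p₁) := by
    rw [hj'']
    infer_instance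
  obtain ⟨z, hz1, hz2⟩ := Scheme.Pullback.exists_preimage_pullback (f := j ≫ p₂) (g := i) x' y'
    hy'.symm
  obtain ⟨V, hV, hlft⟩ := exists_opens_lft_of_affine (B := R) t (i ≫ f) sq' j'' z
  refine ⟨i ''ᵁ V, ?_, ?_⟩
  · refine ⟨y', ?_, hy'⟩
    have : (j'' ≫ pullback.snd p₂ i).base z = y' := by
      have e : j'' ≫ pullback.snd p₂ i = pullback.snd (j ≫ p₂) i := by
        rw [pullback.lift_snd, Category.comp_id]
      rw [e]
      exact hz2
    rw [← this]
    exact hV
  · rw [← Scheme.Hom.isoImage_inv_ι, Category.assoc, Category.assoc]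
    haveI := hlft
    infer_instance

end Groth.Agent.Lib.Helper24.LftPt
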