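import Mathlib
import Groth.Agent.Lib.Helper24.LftPt.Sch
import Groth.Agent.Lib.Helper24.FibHom.Artin

/-!
# A group scheme over an artinian local ring with a nonempty open locally of finite type is
locally of finite type (SGA3 VI_B 1.6 / VI_A 2.4.1)
-/

set_option autoImplicit false
universe u

open CategoryTheory MonoidalCategory CartesianMonoidalCategory MonObj GrpObj AlgebraicGeometry Limits

namespace Groth.Agent.Lib.Helper24.LftPt

open Groth.Agent.Lib.Helper24.FibHom

section translate

variable {S : Scheme.{u}} {G : Over S} [GrpObj G] {T : Over S}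

/-- the preimage of an open of `G` in `G ⊗ T` -/
noncomputable abbrev preW (W : G.left.Opens) (T : Over S) : (G ⊗ T).left.Opens :=
  (fst G T).left ⁻¹ᵁ W

theorem isPullback_prod (G T : Over S) :
    IsPullback (fst G T).left (snd G T).left G.hom T.hom :=
  IsPullback.of_hasPullback G.hom T.hom

omit [GrpObj G] in
/-- `W × T ⟶ T` is a base change of `W ⟶ S` -/
theorem lft_preW (W : G.left.Opens) [LocallyOfFiniteType (W.ι ≫ G.hom)] (T : Over S) :
    LocallyOfFiniteType ((preW W T).ι ≫ (snd G T).left) := by
  have h1 := isPullback_morphismRestrict (fst G T).left W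
  have h2 := h1.paste_vert (isPullback_prod G T)
  exact MorphismProperty.of_isPullback (P := @LocallyOfFiniteType) h2 inferInstance

/-- the translated copy of `W × T` in `G × T` -/
noncomputable abbrev transι (g : T ⟶ G) (W : G.left.Opens) : (preW W T : Scheme) ⟶ (G ⊗ T).left :=
  (preW W T).ι ≫ (shearR g).left

theorem transι_snd (g : T ⟶ G) (W : G.left.Opens) :
    transι g W ≫ (snd G T).left = (preW W T).ι ≫ (snd G T).left := by
  have : (shearR g ≫ snd G T) = snd G T := by simp [shearR]
  rw [Category.assoc, ← Over.comp_left, this]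

theorem transι_fst (g : T ⟶ G) (W : G.left.Opens) :
    transι g W ≫ (fst G T).left = (preW W T).ι ≫ (mulR g).left := by
  rw [Category.assoc, ← Over.comp_left, ← mulR_eq_shearR]

end translate

section main

variable (A : Type u) [CommRing A] [IsArtinianRing A] [IsLocalRing A]
  (G : Over (Spec (CommRingCat.of A))) [GrpObj G]

theorem exists_opens_lft_grp (W : G.left.Opens) (hW : (W : Set G.left).Nonempty)
    [LocallyOfFiniteType (W.ι ≫ G.hom)] (x : G.left) :
    ∃ V : G.left.Opens, x ∈ V ∧ LocallyOfFiniteType (V.ι ≫ G.hom) := by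
  haveI : Subsingleton ↥(Spec (CommRingCat.of A)) := PtFlat.subsingleton_spec_of_artinian_local A
  obtain ⟨w₀, hw₀⟩ := hW
  -- a point of `W ×_S Spec κ(x)`
  let c : Spec (G.left.residueField x) ⟶ Spec (CommRingCat.of A) :=
    G.left.fromSpecResidueField x ≫ G.hom
  obtain ⟨pt₀⟩ : Nonempty (Spec (G.left.residueField x)) := inferInstance
  obtain ⟨z₀, -, -⟩ := Scheme.Pullback.exists_preimage_pullback (f := W.ι ≫ G.hom) (g := c)
    ⟨w₀, hw₀⟩ pt₀ (Subsingleton.elim _ _)
  let P₀ := pullback (W.ι ≫ G.hom) c
  let r : Spec (P₀.residueField z₀) ⟶ P₀ := P₀.fromSpecResidueField z₀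
  let T : Over (Spec (CommRingCat.of A)) := Over.mk (r ≫ pullback.fst _ _ ≫ W.ι ≫ G.hom)
  let w : T ⟶ G := Over.homMk (r ≫ pullback.fst _ _ ≫ W.ι) (by simp [T])
  let xT : T ⟶ G := Over.homMk (r ≫ pullback.snd _ _ ≫ G.left.fromSpecResidueField x) (by
    simp only [T, Over.mk_hom, Category.assoc]
    congr 1
    exact pullback.condition.symm)
  let g : T ⟶ G := w⁻¹ * xT
  let σ : T ⟶ G ⊗ T := lift w (𝟙 T)
  obtain ⟨pt⟩ : Nonempty T.left := inferInstanceAs (Nonempty (Spec (P₀.residueField z₀)))
  have hσW : σ.left.base pt ∈ preW W T := by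
    show (σ.left ≫ (fst G T).left).base pt ∈ W
    have e : σ.left ≫ (fst G T).left = w.left := by
      rw [← Over.comp_left, lift_fst]
    rw [e]
    show (r ≫ pullback.fst _ _ ≫ W.ι).base pt ∈ W
    exact ((r ≫ pullback.fst _ _).base pt).2
  haveI : LocallyOfFiniteType (transι g W ≫ (snd G T).left) := by
    rw [transι_snd]
    exact lft_preW W T
  letI : Field ↑(P₀.residueField z₀) := inferInstance
  obtain ⟨V, hxV, hV⟩ := exists_opens_lft (A := A) (K := ↑(P₀.residueField z₀)) (Y := G.left)
    T.hom G.hom (isPullback_prod G T).flip (transι g W) ⟨σ.left.base pt, hσW⟩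
  refine ⟨V, ?_, hV⟩
  have e1 : (transι g W ≫ (fst G T).left).base ⟨σ.left.base pt, hσW⟩ = x := by
    rw [transι_fst]
    show (σ.left ≫ (mulR g).left).base pt = x
    have e2 : σ ≫ mulR g = xT := by
      simp only [mulR, σ, MonObj.comp_mul, lift_fst]
      rw [← Category.assoc, lift_snd, Category.id_comp]
      simp [g]
    rw [← Over.comp_left, e2]
    show (G.left.fromSpecResidueField x).base ((r ≫ pullback.snd _ _).base pt) = x
    exact Scheme.fromSpecResidueField_apply _ _
  rw [← e1]
  exact hxV

/-- **SGA3 VI_B 1.6 (locally of finite type case).** -/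
theorem lft_of_nonempty_open (W : G.left.Opens) (hW : (W : Set G.left).Nonempty)
    [LocallyOfFiniteType (W.ι ≫ G.hom)] : LocallyOfFiniteType G.hom := by
  haveI : IsZariskiLocalAtSource (@LocallyOfFiniteType : MorphismProperty Scheme.{u}) :=
    HasRingHomProperty.instIsZariskiLocalAtSource
  exact of_forall_mem (@LocallyOfFiniteType : MorphismProperty Scheme.{u}) G.hom
    (exists_opens_lft_grp A G W hW)

end main

end Groth.Agent.Lib.Helper24.LftPt
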