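import Mathlib
import Groth.Agent.Lib.Helper24.LftPt.Grp

/-!
# SGA3 VI_B 1.6: properties of a flat group scheme over an artinian local ring at a point
-/

set_option autoImplicit false
universe u

open CategoryTheory MonoidalCategory CartesianMonoidalCategory MonObj GrpObj AlgebraicGeometry Limits

namespace Groth.Agent.Lib.Helper24.LftPt

open Groth.Agent.Lib.Helper24.FibHom

variable (A : Type u) [CommRing A] [IsArtinianRing A] [IsLocalRing A]
  (G : Over (Spec (CommRingCat.of A))) [GrpObj G]

theorem main5339 [Flat G.hom] (W : G.left.Opens) (hW : (W : Set G.left).Nonempty) :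
    (LocallyQuasiFinite (W.ι ≫ G.hom) → LocallyOfFiniteType (W.ι ≫ G.hom) →
      LocallyQuasiFinite G.hom ∧ LocallyOfFiniteType G.hom) ∧
    (FormallyUnramified (W.ι ≫ G.hom) → LocallyOfFinitePresentation (W.ι ≫ G.hom) →
      FormallyUnramified G.hom ∧ LocallyOfFinitePresentation G.hom) ∧
    (Smooth (W.ι ≫ G.hom) → Smooth G.hom) ∧ (Etale (W.ι ≫ G.hom) → Etale G.hom) := by
  have hu : (toUnit G).left = G.hom := by
    have := Over.w (toUnit G)
    simpa using this
  have key : LocallyOfFiniteType (W.ι ≫ G.hom) →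
      ((LocallyQuasiFinite (W.ι ≫ G.hom) → LocallyQuasiFinite G.hom) ∧
      (FormallyUnramified (W.ι ≫ G.hom) → LocallyOfFinitePresentation (W.ι ≫ G.hom) →
        FormallyUnramified G.hom ∧ LocallyOfFinitePresentation G.hom) ∧
      (Smooth (W.ι ≫ G.hom) → Smooth G.hom) ∧ (Etale (W.ι ≫ G.hom) → Etale G.hom)) ∧
      LocallyOfFiniteType G.hom := by
    intro h
    haveI := h
    haveI : LocallyOfFiniteType G.hom := lft_of_nonempty_open A G W hW
    have := main5337 A G (𝟙_ (Over (Spec (CommRingCat.of A)))) (toUnit G) W hW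
    rw [hu] at this
    exact ⟨this, inferInstance⟩
  refine ⟨fun h1 h2 => ⟨(key h2).1.1 h1, (key h2).2⟩, fun h1 h2 => ?_, fun h => ?_, fun h => ?_⟩
  · haveI := h2
    exact (key inferInstance).1.2.1 h1 h2
  · haveI := h
    exact (key inferInstance).1.2.2.1 h
  · haveI := h
    exact (key inferInstance).1.2.2.2 h

end Groth.Agent.Lib.Helper24.LftPt
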