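import Mathlib
import Groth.Agent.Lib.Helper24.LftPt.Main
import Groth.Agent.Lib.Helper4.GrpSchUnram

/-!
# SGA3 VI_B 2.?: the unit section is an open immersion iff the fibres are unramified
-/

set_option autoImplicit false
universe u

open CategoryTheory MonoidalCategory CartesianMonoidalCategory MonObj GrpObj AlgebraicGeometry Limits

namespace Groth.Agent.Lib.Helper24.LftPt

open Groth.Agent.Lib.Helper24.FibHom Groth.Agent.Lib.Helper4

/-- a section of an unramified morphism is an open immersion -/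
theorem isOpenImmersion_of_section {X Y : Scheme.{u}} (π : X ⟶ Y) [FormallyUnramified π]
    [LocallyOfFiniteType π] (e : Y ⟶ X) (he : e ≫ π = 𝟙 Y) : IsOpenImmersion e :=
  MorphismProperty.of_isPullback (P := @IsOpenImmersion)
    (GrpSchUnram.isPullback_section π e he
      (pullback.lift (π ≫ e) (𝟙 _) (by rw [Category.assoc, he, Category.comp_id, Category.id_comp]))
      (pullback.lift_fst _ _ _) (pullback.lift_snd _ _ _)) inferInstance

variable {S : Scheme.{u}} (G : Over S) [GrpObj G]

theorem unitSec_fwd (h : IsOpenImmersion η[G].left) :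
    (∃ W : G.left.Opens, (∀ p : ↥(𝟙_ (Over S)).left, η[G].left.base p ∈ W) ∧
      LocallyOfFinitePresentation (W.ι ≫ G.hom)) ∧
    ∀ s : S, FormallyUnramified (G.hom.fiberToSpecResidueField s) ∧
      LocallyOfFinitePresentation (G.hom.fiberToSpecResidueField s) := by
  haveI := h
  let W : G.left.Opens := η[G].left.opensRange
  have hWiso : W.ι ≫ G.hom = η[G].left.isoOpensRange.inv := by
    rw [← Scheme.Hom.isoOpensRange_inv_comp, Category.assoc, GrpToGrpd.eta_hom]
    exact Category.comp_id _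
  haveI : IsIso (W.ι ≫ G.hom) := by rw [hWiso]; infer_instance
  refine ⟨⟨W, fun p => ⟨p, rfl⟩, inferInstance⟩, fun s => ?_⟩
  let g : Spec (S.residueField s) ⟶ S := S.fromSpecResidueField s
  let Gs : Over (Spec (S.residueField s)) := (Over.pullback g).obj G
  let p : Gs.left ⟶ G.left := pullback.fst G.hom g
  let Ws : Gs.left.Opens := p ⁻¹ᵁ W
  have sqW : IsPullback (p ∣_ W) (Ws.ι ≫ Gs.hom) (W.ι ≫ G.hom) g :=
    isPullback_restrict (IsPullback.of_hasPullback G.hom g) W
  haveI : IsIso (Ws.ι ≫ Gs.hom) :=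
    MorphismProperty.of_isPullback (P := MorphismProperty.isomorphisms Scheme.{u}) sqW
      (inferInstanceAs (IsIso (W.ι ≫ G.hom)))
  have hne : (Ws : Set Gs.left).Nonempty := by
    obtain ⟨o⟩ : Nonempty (Spec (S.residueField s)) := inferInstance
    have hgo : g.base o = s := Scheme.fromSpecResidueField_apply _ _
    have hx : G.hom.base (η[G].left.base s) = g.base o := by
      rw [← Scheme.Hom.comp_apply, GrpToGrpd.eta_hom, hgo]
      rfl
    obtain ⟨z, hz, -⟩ := Scheme.Pullback.exists_preimage_pullback (f := G.hom) (g := g) _ o hx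
    refine ⟨z, ?_⟩
    show p.base z ∈ W
    rw [hz]
    exact ⟨s, rfl⟩
  have h1 : @IsArtinianRing ↑(S.residueField s) (S.residueField s).commRing.toRing.toSemiring :=
    (inferInstance : IsArtinianRing ↑(S.residueField s))
  have h2 : @IsLocalRing ↑(S.residueField s) (S.residueField s).commRing.toCommSemiring.toSemiring :=
    (inferInstance : IsLocalRing ↑(S.residueField s))
  have key := @main5339 (↑(S.residueField s)) (S.residueField s).commRing h1 h2 Gs _ inferInstance
    Ws hne
  exact key.2.1 inferInstance inferInstance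

theorem unitSec_bwd (W : G.left.Opens) (hW : ∀ p : ↥(𝟙_ (Over S)).left, η[G].left.base p ∈ W)
    [LocallyOfFinitePresentation (W.ι ≫ G.hom)]
    (hfib : ∀ s : S, FormallyUnramified (G.hom.fiberToSpecResidueField s)) :
    IsOpenImmersion η[G].left := by
  haveI : IsZariskiLocalAtSource (@FormallyUnramified : MorphismProperty Scheme.{u}) :=
    HasRingHomProperty.instIsZariskiLocalAtSource
  -- near every point of the unit section, `G` is unramified over `S`
  have hloc : ∀ s : S, ∃ V : G.left.Opens, η[G].left.base s ∈ V ∧ V ≤ W ∧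
      FormallyUnramified (V.ι ≫ G.hom) := by
    intro s
    have hmem : η[G].left.base s ∈ Set.range W.ι.base := by
      rw [Scheme.Opens.range_ι]
      exact hW s
    obtain ⟨x', hx'⟩ := hmem
    have hs : (W.ι ≫ G.hom).base x' = s := by
      rw [Scheme.Hom.comp_apply, hx', ← Scheme.Hom.comp_apply, GrpToGrpd.eta_hom]
      rfl
    have hf : FormallyUnramified ((W.ι ≫ G.hom).fiberToSpecResidueField s) :=
      fibre_of_source (P := @FormallyUnramified) W.ι G.hom s (hfib s)
    obtain ⟨V', hxV', hV'⟩ := fc_unramified (W.ι ≫ G.hom) x' s hs hf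
    refine ⟨W.ι ''ᵁ V', ⟨x', hxV', hx'⟩, ?_, ?_⟩
    · rintro _ ⟨y, -, rfl⟩
      have : W.ι.base y ∈ Set.range W.ι.base := ⟨y, rfl⟩
      rw [Scheme.Opens.range_ι] at this
      exact this
    · rw [← Scheme.Hom.isoImage_inv_ι]
      exact IsZariskiLocalAtSource.comp (P := @FormallyUnramified) hV' _
  choose V hV1 hV2 hV3 using hloc
  let U : G.left.Opens := ⨆ s, V s
  have hUW : U ≤ W := iSup_le hV2
  haveI : FormallyUnramified (U.ι ≫ G.hom) := by
    refine IsZariskiLocalAtSource.of_iSup_eq_top (P := @FormallyUnramified)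
      (fun s => U.ι ⁻¹ᵁ V s) ?_ fun s => ?_
    · rw [eq_top_iff]
      rintro ⟨x, hx⟩ -
      obtain ⟨s, hs⟩ := TopologicalSpace.Opens.mem_iSup.1 hx
      exact TopologicalSpace.Opens.mem_iSup.2 ⟨s, hs⟩
    · have hle : V s ≤ U := le_iSup V s
      have e : (U.ι ⁻¹ᵁ V s).ι ≫ U.ι = (Scheme.Hom.isoImage U.ι (U.ι ⁻¹ᵁ V s)).hom ≫
          (U.ι ''ᵁ (U.ι ⁻¹ᵁ V s)).ι := (Scheme.Hom.isoImage_hom_ι _ _).symm
      have e2 : U.ι ''ᵁ (U.ι ⁻¹ᵁ V s) = V s := by
        apply le_antisymm
        · rintro _ ⟨y, hy, rfl⟩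
          exact hy
        · intro x hx
          exact ⟨⟨x, hle hx⟩, hx, rfl⟩
      rw [← Category.assoc, e, Category.assoc]
      have h3 : FormallyUnramified ((U.ι ''ᵁ (U.ι ⁻¹ᵁ V s)).ι ≫ G.hom) := by
        rw [e2]
        exact hV3 s
      exact IsZariskiLocalAtSource.comp (P := @FormallyUnramified) h3 _
  haveI : LocallyOfFiniteType (U.ι ≫ G.hom) := by
    have : U.ι ≫ G.hom = G.left.homOfLE hUW ≫ W.ι ≫ G.hom := by
      rw [← Category.assoc, Scheme.homOfLE_ι]
    rw [this]
    infer_instance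
  have hrange : Set.range η[G].left.base ⊆ Set.range U.ι.base := by
    rintro _ ⟨s, rfl⟩
    rw [Scheme.Opens.range_ι]
    exact TopologicalSpace.Opens.mem_iSup.2 ⟨s, hV1 s⟩
  let e' : S ⟶ U := IsOpenImmersion.lift U.ι η[G].left hrange
  have he' : e' ≫ U.ι = η[G].left := IsOpenImmersion.lift_fac _ _ _
  haveI : IsOpenImmersion e' := isOpenImmersion_of_section (U.ι ≫ G.hom) e' (by
    rw [← Category.assoc, he', GrpToGrpd.eta_hom])
  rw [← he']
  infer_instance

theorem main5318 :
    (IsOpenImmersion η[G].left ↔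
      ((∃ W : G.left.Opens, (∀ p : ↥(𝟙_ (Over S)).left, η[G].left.base p ∈ W) ∧
        LocallyOfFinitePresentation (W.ι ≫ G.hom)) ∧
        ∀ s : S, FormallyUnramified (G.hom.fiberToSpecResidueField s) ∧
          LocallyOfFinitePresentation (G.hom.fiberToSpecResidueField s))) ∧
    (LocallyOfFinitePresentation G.hom → (IsOpenImmersion η[G].left ↔ FormallyUnramified G.hom)) := by
  refine ⟨⟨unitSec_fwd G, ?_⟩, fun h => ?_⟩
  · rintro ⟨⟨W, hW, hlfp⟩, hfib⟩
    haveI := hlfp
    exact unitSec_bwd G W hW fun s => (hfib s).1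
  · haveI := h
    exact (GrpSchUnram.main G).symm

end Groth.Agent.Lib.Helper24.LftPt
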